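import Groth.Agent.GradedVertex.Basic
import Groth.Agent.StdMon.CMQuot
import Groth.Agent.StdMon.FlatCM
import Groth.Agent.StdMon.GradedFree
import Mathlib.GroupTheory.CosetCover
import Mathlib.RingTheory.MvPolynomial.Homogeneous

/-!
# Cohen–Macaulay cones
-/

namespace Groth.Agent.GradedVertex

open MvPolynomial LocCoh StdMon

universe u

/-- A quotient by an element which is regular on `A` is Cohen–Macaulay where `A` is. -/
theorem isCohenMacaulayLocalRing_atPrime_quotient {A B : Type u} [CommRing A] [CommRing B] (φ : A →+* B)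
    (hφ : Function.Surjective φ) {x : A} (hk : RingHom.ker φ = Ideal.span {x}) (hx : x ∈ nonZeroDivisors A)
    (q : Ideal B) [q.IsPrime] (hcm : IsCohenMacaulayLocalRing (Localization.AtPrime (q.comap φ))) :
    IsCohenMacaulayLocalRing (Localization.AtPrime q) := by
  set p := q.comap φ
  let f : Localization.AtPrime p →+* Localization.AtPrime q := Localization.localRingHom p q φ rfl
  let y := algebraMap A (Localization.AtPrime p) x
  have hφx : φ x = 0 := by rw [← RingHom.mem_ker, hk]; exact Ideal.mem_span_singleton_self x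
  have hxp : x ∈ p := by rw [Ideal.mem_comap, hφx]; exact q.zero_mem
  have hy : y ∈ IsLocalRing.maximalIdeal (Localization.AtPrime p) := by
    rw [← Localization.AtPrime.map_eq_maximalIdeal]
    exact Ideal.mem_map_of_mem _ hxp
  have hreg : IsSMulRegular (Localization.AtPrime p) y := by
    have := IsLocalization.map_nonZeroDivisors_le p.primeCompl (Localization.AtPrime p)
      (Submonoid.mem_map_of_mem _ hx)
    intro a b h
    simp only [smul_eq_mul] at h
    exact sub_eq_zero.1 (mem_nonZeroDivisors_iff_right.1 this _ (by rw [sub_mul, mul_comm a, mul_comm b, h, sub_self]))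
  have hsurj : Function.Surjective f := fun z => by
    obtain ⟨a, ⟨s, hs⟩, rfl⟩ := IsLocalization.exists_mk'_eq q.primeCompl z
    obtain ⟨a, rfl⟩ := hφ a
    obtain ⟨s, rfl⟩ := hφ s
    exact ⟨IsLocalization.mk' _ a (⟨s, hs⟩ : p.primeCompl), Localization.localRingHom_mk' p q _ rfl a _⟩
  have hker : RingHom.ker f = Ideal.span {y} := by
    refine le_antisymm (fun z hz => ?_) ?_
    · obtain ⟨a, s, rfl⟩ := IsLocalization.exists_mk'_eq p.primeCompl z
      rw [RingHom.mem_ker] at hz
      erw [Localization.localRingHom_mk', IsLocalization.mk'_eq_zero_iff] at hz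
      obtain ⟨⟨u, hu⟩, hua⟩ := hz
      obtain ⟨u, rfl⟩ := hφ u
      rw [← map_mul, ← RingHom.mem_ker, hk, Ideal.mem_span_singleton'] at hua
      obtain ⟨c, hc⟩ := hua
      have hue : IsUnit (algebraMap A (Localization.AtPrime p) u) :=
        IsLocalization.map_units _ (⟨u, hu⟩ : p.primeCompl)
      rw [← Ideal.unit_mul_mem_iff_mem _ hue, IsLocalization.mul_mk'_eq_mk'_of_mul, ← hc, mul_comm c,
        ← IsLocalization.mul_mk'_eq_mk'_of_mul]
      exact Ideal.mul_mem_right _ _ (Ideal.mem_span_singleton_self y)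
    · rw [Ideal.span_le, Set.singleton_subset_iff, SetLike.mem_coe, RingHom.mem_ker,
        Localization.localRingHom_to_map, hφx, map_zero]
  have := isCohenMacaulayLocalRing_quotient_of_regular hy hreg
  exact Catenary.isCohenMacaulayLocalRing_of_ringEquiv (A := Localization.AtPrime p ⧸ Ideal.span {y})
    ((Ideal.quotEquivOfEq hker.symm).trans (RingHom.quotientKerEquivOfSurjective hsurj))

attribute [local instance] MvPolynomial.gradedAlgebra

theorem atPrime_congr {A : Type u} [CommRing A] {p q : Ideal A} [p.IsPrime] [q.IsPrime] (h : p = q)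
    (hp : IsCohenMacaulayLocalRing (Localization.AtPrime p)) :
    IsCohenMacaulayLocalRing (Localization.AtPrime q) := by
  subst h; exact hp

variable {K : Type u} [Field K] {N : ℕ}

theorem isHomog_iff {σ : Type*} {I : Ideal (MvPolynomial σ K)} :
    IsHomog I ↔ I.IsHomogeneous (homogeneousSubmodule σ K) := by
  have h : ∀ f k, ((DirectSum.decompose (homogeneousSubmodule σ K) f k : _) : MvPolynomial σ K) =
      homogeneousComponent k f := fun f k => decomposition.decompose'_apply f k
  exact ⟨fun hI k f hf => by rw [h]; exact hI f hf k, fun hI f hf k => by rw [← h]; exact hI k hf⟩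

theorem irrelevant_eq_ker :
    (HomogeneousIdeal.irrelevant (homogeneousSubmodule (Fin N) K)).toIdeal =
      RingHom.ker (constantCoeff : MvPolynomial (Fin N) K →+* K) := by
  ext f
  change f ∈ HomogeneousIdeal.irrelevant (homogeneousSubmodule (Fin N) K) ↔ _
  rw [HomogeneousIdeal.mem_irrelevant_iff, GradedRing.proj_apply, RingHom.mem_ker]
  erw [decomposition.decompose'_apply]
  rw [homogeneousComponent_zero, C_eq_zero, constantCoeff_eq]

theorem X_mem_vertex (i : Fin N) : (X i : MvPolynomial (Fin N) K) ∈ RingHom.ker constantCoeff :=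
  constantCoeff_X K i

theorem vertex_le_span_X : RingHom.ker (constantCoeff : MvPolynomial (Fin N) K →+* K) ≤
    Ideal.span (Set.range X) := by
  intro f hf
  rw [← Ideal.Quotient.eq_zero_iff_mem]
  have h : (Ideal.Quotient.mk (Ideal.span (Set.range X))).comp (C.comp constantCoeff) =
      Ideal.Quotient.mk (Ideal.span (Set.range (X : Fin N → MvPolynomial (Fin N) K))) :=
    MvPolynomial.ringHom_ext (fun r => by simp) (fun i => by
      simp [Ideal.Quotient.eq_zero_iff_mem.2 (Ideal.subset_span ⟨i, rfl⟩ : (X i : MvPolynomial (Fin N) K) ∈ Ideal.span (Set.range X))])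
  rw [← h, RingHom.comp_apply, RingHom.comp_apply, RingHom.mem_ker.1 hf, map_zero, map_zero]

theorem isMaximal_vertex : (RingHom.ker (constantCoeff : MvPolynomial (Fin N) K →+* K)).IsMaximal :=
  RingHom.ker_isMaximal_of_surjective _ fun r => ⟨C r, constantCoeff_C _ r⟩

/-- A linear form regular on a cone with Cohen–Macaulay vertex, unless the cone is the vertex. -/
theorem exists_regular_linear [Infinite K] {I : Ideal (MvPolynomial (Fin N) K)} (hI : IsHomog I)
    [hm : ((RingHom.ker (constantCoeff : MvPolynomial (Fin N) K →+* K)).map (Ideal.Quotient.mk I)).IsPrime]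
    (hcm : IsCohenMacaulayLocalRing (Localization.AtPrime
      ((RingHom.ker (constantCoeff : MvPolynomial (Fin N) K →+* K)).map (Ideal.Quotient.mk I))))
    (hX : ¬∀ x, X x ∈ I.radical) :
    ∃ L : MvPolynomial (Fin N) K, L.IsHomogeneous 1 ∧ ∀ f, L * f ∈ I → f ∈ I := by
  classical
  set S := MvPolynomial (Fin N) K
  set M := RingHom.ker (constantCoeff : S →+* K)
  set mI := M.map (Ideal.Quotient.mk I)
  let mk : S →ₐ[K] S ⧸ I := Ideal.Quotient.mkₐ K I
  let V : Ideal (S ⧸ I) → Submodule K S := fun P =>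
    ((P.comap (Ideal.Quotient.mk I)).restrictScalars K)
  let W : Submodule K S := homogeneousSubmodule (Fin N) K 1
  let fin : Set (Submodule K W) :=
    (fun P => (V P).comap W.subtype) '' associatedPrimes (S ⧸ I) (S ⧸ I)
  have hfin : fin.Finite := (associatedPrimes.finite (S ⧸ I) (S ⧸ I)).image _
  have htop : ⊤ ∉ hfin.toFinset := by
    intro h
    rw [Set.Finite.mem_toFinset] at h
    obtain ⟨P, hP, hPt⟩ := h
    have hPp : P.IsPrime := IsAssociatedPrime.isPrime hP
    have hMP : M ≤ P.comap (Ideal.Quotient.mk I) := by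
      refine vertex_le_span_X.trans (Ideal.span_le.2 ?_)
      rintro _ ⟨i, rfl⟩
      have := hPt.ge (Submodule.mem_top (x := (⟨X i, isHomogeneous_X K i⟩ : W)))
      exact this
    have hmax : mI.IsMaximal :=
      (Ideal.map_eq_top_or_isMaximal_of_surjective _ Ideal.Quotient.mk_surjective
        isMaximal_vertex).resolve_left hm.ne_top
    obtain rfl : mI = P := hmax.eq_of_le hPp.ne_top (Ideal.map_le_iff_le_comap.2 hMP)
    have hd0 := DepthLib.ringKrullDim_eq_depth (R := Localization.AtPrime mI)
    rw [IsLocalization.AtPrime.ringKrullDim_eq_height mI,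
      show depth (Localization.AtPrime mI) (Localization.AtPrime mI) = 0 from
        DepthLib.depth_localization_eq_zero_of_mem_associatedPrimes (M := S ⧸ I) mI hP] at hd0
    have hh : mI.height = 0 := WithBot.coe_inj.1 hd0
    refine hX fun x => ?_
    rw [Ideal.radical_eq_sInf, Submodule.mem_sInf]
    rintro Q ⟨hIQ, hQ⟩
    obtain ⟨R, hR, hRQ⟩ := Ideal.exists_minimalPrimes_le (I := I) hIQ
    have hRp := hR.isPrime
    have hRM : R ≤ M := irrelevant_eq_ker.le.trans' (minimalPrime_le_irrelevant _ (fun a ha =>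
      ⟨coeff 0 a, (totalDegree_eq_zero_iff_eq_C.1 ((totalDegree_zero_iff_isHomogeneous _).2 ha)).symm⟩)
        (isHomog_iff.1 hI) hR)
    have hRm : R.map (Ideal.Quotient.mk I) = mI := by
      refine eq_of_le_of_not_lt (Ideal.map_mono hRM) fun hlt => ?_
      have : (R.map (Ideal.Quotient.mk I)).IsPrime :=
        Ideal.map_isPrime_of_surjective Ideal.Quotient.mk_surjective (by rw [Ideal.mk_ker]; exact hR.le)
      have := Ideal.height_add_one_le_of_lt_of_isPrime hlt
      rw [hh] at this
      simp at this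
    have hx : X x ∈ (R.map (Ideal.Quotient.mk I)).comap (Ideal.Quotient.mk I) := by
      rw [hRm]; exact Ideal.mem_map_of_mem _ (X_mem_vertex x)
    rw [Ideal.comap_map_of_surjective _ Ideal.Quotient.mk_surjective, ← RingHom.ker_eq_comap_bot,
      Ideal.mk_ker, sup_eq_left.2 hR.le] at hx
    exact hRQ hx
  obtain ⟨⟨L, hL⟩, hLn⟩ := (Set.ne_univ_iff_exists_notMem _).1 (Subspace.biUnion_ne_univ_of_top_notMem htop)
  refine ⟨L, hL, fun f hf => ?_⟩
  by_contra hfI
  have hz : Ideal.Quotient.mk I L ∈ (⋃ P ∈ associatedPrimes (S ⧸ I) (S ⧸ I), (P : Set (S ⧸ I))) := by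
    rw [biUnion_associatedPrimes_eq_zero_divisors]
    exact ⟨Ideal.Quotient.mk I f, fun h => hfI (Ideal.Quotient.eq_zero_iff_mem.1 h), by
      rw [smul_eq_mul, ← map_mul, Ideal.Quotient.eq_zero_iff_mem]; exact hf⟩
  obtain ⟨P, hP, hLP⟩ := Set.mem_iUnion₂.1 hz
  exact hLn (Set.mem_iUnion₂.2 ⟨_, hfin.mem_toFinset.2 ⟨P, hP, rfl⟩, hLP⟩)

theorem exists_regSeq_of_vertex [Infinite K] : ∀ I : Ideal (MvPolynomial (Fin N) K), IsHomog I →
    ∀ [((RingHom.ker (constantCoeff : MvPolynomial (Fin N) K →+* K)).map (Ideal.Quotient.mk I)).IsPrime],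
    IsCohenMacaulayLocalRing (Localization.AtPrime
      ((RingHom.ker (constantCoeff : MvPolynomial (Fin N) K →+* K)).map (Ideal.Quotient.mk I))) →
    ∃ (e : ℕ) (l : Fin e → MvPolynomial (Fin N) K), (∀ i, (l i).IsHomogeneous 1) ∧ RegSeq I l ∧
      ∀ x, X x ∈ (I ⊔ Ideal.span (Set.range l)).radical := by
  intro I
  induction I using IsNoetherian.induction with
  | hgt I ih =>
  intro hI hm hcm
  set M := RingHom.ker (constantCoeff : MvPolynomial (Fin N) K →+* K)
  by_cases hX : ∀ x, X x ∈ Ideal.radical I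
  · exact ⟨0, Fin.elim0, fun i => i.elim0, fun i => i.elim0,
      fun x => Ideal.radical_mono le_sup_left (hX x)⟩
  obtain ⟨L, hL, hLreg⟩ := exists_regular_linear hI hcm hX
  set J := I ⊔ Ideal.span {L}
  have hIM : I ≤ M := by
    by_contra h
    refine hm.ne_top ?_
    have h2 : M ⊔ I = ⊤ := isMaximal_vertex.1.2 _ (left_lt_sup.2 h)
    have h3 := congrArg (Ideal.map (Ideal.Quotient.mk I)) h2
    rwa [Ideal.map_sup, Ideal.map_quotient_self, sup_bot_eq, Ideal.map_top] at h3
  have hLM : L ∈ M := by
    change constantCoeff L = 0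
    rw [constantCoeff_eq]
    exact hL.coeff_eq_zero (by simp)
  have hJM : J ≤ M := sup_le hIM ((Ideal.span_singleton_le_iff_mem _).2 hLM)
  have hlt : I < J := lt_of_le_of_ne le_sup_left fun e => by
    have h1 : (1 : MvPolynomial (Fin N) K) ∈ I :=
      hLreg 1 (by rw [mul_one, e]; exact Ideal.mem_sup_right (Ideal.mem_span_singleton_self L))
    exact isMaximal_vertex.ne_top ((Ideal.eq_top_iff_one M).2 (hIM h1))
  have : (M.map (Ideal.Quotient.mk J)).IsPrime :=
    have := isMaximal_vertex.isPrime (α := MvPolynomial (Fin N) K)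
    Ideal.map_isPrime_of_surjective Ideal.Quotient.mk_surjective (by rw [Ideal.mk_ker]; exact hJM)
  let φ := Ideal.Quotient.factor (le_sup_left : I ≤ J)
  have hk : RingHom.ker φ = Ideal.span {Ideal.Quotient.mk I L} := by
    rw [Ideal.Quotient.factor_ker, Ideal.map_sup, Ideal.map_quotient_self, bot_sup_eq, Ideal.map_span,
      Set.image_singleton]
  have hnz : Ideal.Quotient.mk I L ∈ nonZeroDivisors (MvPolynomial (Fin N) K ⧸ I) := by
    rw [mem_nonZeroDivisors_iff_left]
    intro z hz
    obtain ⟨f, rfl⟩ := Ideal.Quotient.mk_surjective z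
    rw [← map_mul, Ideal.Quotient.eq_zero_iff_mem] at hz
    exact Ideal.Quotient.eq_zero_iff_mem.2 (hLreg f hz)
  have hcomap : (M.map (Ideal.Quotient.mk J)).comap φ = M.map (Ideal.Quotient.mk I) := by
    refine Ideal.comap_injective_of_surjective _ Ideal.Quotient.mk_surjective ?_
    rw [Ideal.comap_comap, show φ.comp (Ideal.Quotient.mk I) = Ideal.Quotient.mk J from Ideal.Quotient.factor_comp_mk _,
      Ideal.comap_map_of_surjective _ Ideal.Quotient.mk_surjective,
      Ideal.comap_map_of_surjective _ Ideal.Quotient.mk_surjective, ← RingHom.ker_eq_comap_bot, Ideal.mk_ker,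
      ← RingHom.ker_eq_comap_bot, Ideal.mk_ker, sup_eq_left.2 hJM, sup_eq_left.2 hIM]
  have hcmJ : IsCohenMacaulayLocalRing (Localization.AtPrime (M.map (Ideal.Quotient.mk J))) := by
    refine isCohenMacaulayLocalRing_atPrime_quotient φ (Ideal.Quotient.factor_surjective _) hk hnz _ ?_
    exact atPrime_congr hcomap.symm hcm
  obtain ⟨e, l, hl, hreg, hfin⟩ := @ih J hlt (hI.sup_span hL) ‹_› hcmJ
  refine ⟨e + 1, Fin.snoc l L, fun i => ?_, fun i f => ?_, fun x => ?_⟩
  · induction i using Fin.lastCases with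
    | last => simpa using hL
    | cast j => simpa using hl j
  · induction i using Fin.lastCases with
    | last =>
      have h : Fin.snoc (α := fun _ => MvPolynomial (Fin N) K) l L '' Set.Ioi (Fin.last e) = ∅ :=
        Set.eq_empty_of_forall_notMem fun x ⟨j, hj, _⟩ => (Fin.le_last j).not_gt hj
      simpa [h] using hLreg f
    | cast j =>
      have h : I ⊔ Ideal.span (Fin.snoc (α := fun _ => MvPolynomial (Fin N) K) l L '' Set.Ioi j.castSucc) =
          J ⊔ Ideal.span (l '' Set.Ioi j) := by
        rw [sup_assoc, ← Ideal.span_union]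
        congr 2
        ext g
        simp only [Set.singleton_union, Set.mem_insert_iff, Set.mem_image, Set.mem_Ioi]
        constructor
        · rintro ⟨k, hk, rfl⟩
          induction k using Fin.lastCases with
          | last => exact Or.inl (by simp)
          | cast k => exact Or.inr ⟨k, Fin.castSucc_lt_castSucc_iff.1 hk, by simp⟩
        · rintro (rfl | ⟨k, hk, rfl⟩)
          · exact ⟨_, Fin.castSucc_lt_last j, by simp⟩
          · exact ⟨_, Fin.castSucc_lt_castSucc_iff.2 hk, by simp⟩
      rw [h, Fin.snoc_castSucc]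
      exact hreg j f
  · have h : I ⊔ Ideal.span (Set.range (Fin.snoc (α := fun _ => MvPolynomial (Fin N) K) l L)) =
        J ⊔ Ideal.span (Set.range l) := by
      rw [Fin.range_snoc, Ideal.span_insert, ← sup_assoc]
    rw [h]
    exact hfin x

theorem isCohenMacaulayRing_of_vertex [Infinite K] {I : Ideal (MvPolynomial (Fin N) K)} (hI : IsHomog I)
    [((RingHom.ker (constantCoeff : MvPolynomial (Fin N) K →+* K)).map (Ideal.Quotient.mk I)).IsPrime]
    (hcm : IsCohenMacaulayLocalRing (Localization.AtPrime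
      ((RingHom.ker (constantCoeff : MvPolynomial (Fin N) K →+* K)).map (Ideal.Quotient.mk I)))) :
    IsCohenMacaulayRing (MvPolynomial (Fin N) K ⧸ I) := by
  obtain ⟨e, l, hl, hreg, hfin⟩ := exists_regSeq_of_vertex I hI hcm
  let : Algebra (MvPolynomial (Fin e) K) (MvPolynomial (Fin N) K ⧸ I) :=
    (MvPolynomial.aeval fun i => Ideal.Quotient.mk I (l i) :
      MvPolynomial (Fin e) K →ₐ[K] MvPolynomial (Fin N) K ⧸ I).toRingHom.toAlgebra
  obtain ⟨hfree, hfinite⟩ := exists_free_quotient I l hI hl hreg hfin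
  have := isCohenMacaulayRing_mvPolynomial_field K e
  exact isCohenMacaulayRing_of_flat_finite (MvPolynomial (Fin e) K) _

end Groth.Agent.GradedVertex
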